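import Mathlib
import Cfsg.Prelude.Def_HallClasses

/-!
# Pronormality from Sylow subgroups

`H` containing a Sylow subgroup together with its normalizer is pronormal; Sylow subgroups are
pronormal; a subgroup of index prime to `p` contains a Sylow `p`-subgroup.
-/

set_option autoImplicit false

namespace Cfsg.Agent.Lib.PronormAlt.Basic

open Subgroup

variable {G : Type*} [Group G]

section noFin

theorem coe_smul_sylow {p : ℕ} [Fact p.Prime] (g : G) (P : Sylow p G) :
    ((g • P : Sylow p G) : Subgroup G) = (P : Subgroup G).map (MulAut.conj g).toMonoidHom := by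
  rw [Sylow.coe_subgroup_smul, Subgroup.pointwise_smul_def]
  rfl

end noFin

section
variable [Finite G]

theorem exists_conj_of_sylow_le {p : ℕ} [Fact p.Prime] (P Q : Sylow p G) (K : Subgroup G)
    (hP : (P : Subgroup G) ≤ K) (hQ : (Q : Subgroup G) ≤ K) :
    ∃ k ∈ K, (Q : Subgroup G) = (P : Subgroup G).map (MulAut.conj k).toMonoidHom := by
  obtain ⟨k, hk⟩ := MulAction.exists_smul_eq K (P.subtype hP) (Q.subtype hQ)
  refine ⟨k, k.2, ?_⟩
  rw [Sylow.smul_subtype] at hk
  have h1 : k • P = Q := Sylow.subtype_injective hk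
  rw [← h1, Subgroup.smul_def, coe_smul_sylow]

end

theorem map_conj_map_conj (H : Subgroup G) (a b : G) :
    (H.map (MulAut.conj a).toMonoidHom).map (MulAut.conj b).toMonoidHom =
      H.map (MulAut.conj (b * a)).toMonoidHom := by
  rw [Subgroup.map_map]
  congr 1
  ext x
  simp [MulAut.conj_apply, mul_assoc]

theorem map_conj_self_of_mem (H : Subgroup G) {a : G} (ha : a ∈ H) :
    H.map (MulAut.conj a).toMonoidHom = H := by
  ext y
  constructor
  · rintro ⟨z, hz, rfl⟩
    exact H.mul_mem (H.mul_mem ha hz) (H.inv_mem ha)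
  · intro hy
    refine ⟨a⁻¹ * y * a, H.mul_mem (H.mul_mem (H.inv_mem ha) hy) ha, ?_⟩
    simp [MulAut.conj_apply, mul_assoc]

theorem le_sup_map_conj_of_le {A H : Subgroup G} (h : A ≤ H) (g : G) :
    A.map (MulAut.conj g).toMonoidHom ≤ H ⊔ H.map (MulAut.conj g).toMonoidHom :=
  le_trans (Subgroup.map_mono h) le_sup_right

variable [Finite G]

/-- A subgroup containing a Sylow subgroup and its normalizer is pronormal. -/
theorem isPronormal_of_normalizer_le {p : ℕ} [Fact p.Prime] (S : Sylow p G) (H : Subgroup G)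
    (h1 : (S : Subgroup G) ≤ H) (h2 : normalizer (S : Set G) ≤ H) : Cfsg.IsPronormal H := by
  intro g
  obtain ⟨k, hk, hk'⟩ := exists_conj_of_sylow_le S (g • S) (H ⊔ H.map (MulAut.conj g).toMonoidHom)
    (le_trans h1 le_sup_left)
    (by rw [coe_smul_sylow]; exact le_sup_map_conj_of_le h1 g)
  refine ⟨k, hk, ?_⟩
  rw [coe_smul_sylow] at hk'
  have h3 : k⁻¹ * g ∈ normalizer (S : Set G) := by
    rw [← Sylow.smul_eq_iff_mem_normalizer, mul_smul]
    apply Sylow.ext
    rw [coe_smul_sylow, coe_smul_sylow, hk', map_conj_map_conj]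
    simp only [inv_mul_cancel, map_one]
    ext y
    simp
  have h4 : g = k * (k⁻¹ * g) := by group
  rw [h4, ← map_conj_map_conj, map_conj_self_of_mem H (h2 h3)]

/-- A Sylow subgroup is pronormal. -/
theorem isPronormal_sylow {p : ℕ} [Fact p.Prime] (S : Sylow p G) :
    Cfsg.IsPronormal (S : Subgroup G) := by
  intro g
  obtain ⟨k, hk, hk'⟩ := exists_conj_of_sylow_le S (g • S)
    ((S : Subgroup G) ⊔ (S : Subgroup G).map (MulAut.conj g).toMonoidHom)
    le_sup_left
    (by rw [coe_smul_sylow]; exact le_sup_right)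
  refine ⟨k, hk, ?_⟩
  rw [coe_smul_sylow] at hk'
  exact hk'

/-- A subgroup of index prime to `p` contains a Sylow `p`-subgroup. -/
theorem exists_sylow_le_of_coprime_index {p : ℕ} [Fact p.Prime] (H : Subgroup G)
    (h : Nat.Coprime p H.index) : ∃ S : Sylow p G, (S : Subgroup G) ≤ H := by
  classical
  obtain ⟨P⟩ : Nonempty (Sylow p H) := inferInstance
  have hP : IsPGroup p ((P : Subgroup H).map H.subtype) :=
    P.isPGroup'.map H.subtype
  obtain ⟨Q, hQ⟩ := hP.exists_le_sylow
  refine ⟨Q, ?_⟩
  -- compare cards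
  have hcardG : Nat.card Q = p ^ (Nat.card G).factorization p := Q.card_eq_multiplicity
  have hcardH : Nat.card P = p ^ (Nat.card H).factorization p := P.card_eq_multiplicity
  have hidx : (Nat.card H) * H.index = Nat.card G := H.card_mul_index
  have hfac : (Nat.card G).factorization p = (Nat.card H).factorization p := by
    rw [← hidx, Nat.factorization_mul (Nat.card_pos.ne') H.index_ne_zero_of_finite]
    have : (H.index).factorization p = 0 := by
      apply Nat.factorization_eq_zero_of_not_dvd
      intro hd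
      have := Nat.Coprime.eq_one_of_dvd h hd
      exact (Fact.out : p.Prime).one_lt.ne' this
    simp [this]
  have hcardmap : Nat.card ((P : Subgroup H).map H.subtype) = Nat.card P :=
    Subgroup.card_map_of_injective H.subtype_injective
  have heq : (P : Subgroup H).map H.subtype = Q := by
    apply Subgroup.eq_of_le_of_card_ge hQ
    rw [hcardmap, hcardH, hcardG, hfac]
  rw [← heq]
  exact Subgroup.map_subtype_le _

end Cfsg.Agent.Lib.PronormAlt.Basic
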